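import Groth.Agent.H3CAlg.Glue.Maximal
import Groth.Prelude.Def_CycAlg
import Mathlib

/-!
# Gluing finite extensions at the height one primes over a nonzerodivisor
-/

set_option autoImplicit false
set_option linter.style.haveILetI false
universe u

open scoped TensorProduct nonZeroDivisors

namespace Groth.Agent.H3CAlg.Glue

variable {A : Type u} [CommRing A] [IsNoetherianRing A] [IsLocalRing A]

theorem not_lt_of_mem (hA : ringKrullDim A = 2) {t : A} (htnz : t ∈ A⁰) {p q : Ideal A} [p.IsPrime] [q.IsPrime]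
    (htp : t ∈ p) (hqm : q ≠ IsLocalRing.maximalIdeal A) : ¬ p < q := by
  intro hlt
  have hm : (IsLocalRing.maximalIdeal A).height = 2 := by
    have := IsLocalRing.maximalIdeal_height_eq_ringKrullDim (R := A)
    rw [hA] at this
    exact WithBot.coe_inj.mp this
  have h1 : p.height ≠ 0 := fun h => notMem_nonZeroDivisors_of_mem_mem_minimalPrimes htp (Ideal.height_eq_zero_iff.mp h) htnz
  have hqlt : q < IsLocalRing.maximalIdeal A :=
    lt_of_le_of_ne (IsLocalRing.le_maximalIdeal Ideal.IsPrime.ne_top') hqm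
  have h2 := Ideal.height_strict_mono_of_isPrime_of_isPrime hlt
  have h3 := Ideal.height_strict_mono_of_isPrime_of_isPrime hqlt
  rw [hm] at h3
  have e1 : (1 : ℕ∞) ≤ p.height := Order.one_le_iff_ne_zero.mpr h1
  have e2 : (2 : ℕ∞) ≤ q.height := le_trans (show (2 : ℕ∞) ≤ 1 + 1 from le_of_eq (by norm_num))
    ((add_le_add_right e1 1).trans (by rw [add_comm]; exact Order.add_one_le_of_lt h2))
  exact absurd e2 (not_le.mpr h3)

/-- A nonzero power of anything in a height one prime is divisible by `t` after localizing there. -/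
theorem exists_pow_dvd (t : A) (q : Ideal A) [q.IsPrime]
    (hmin : ∀ p : Ideal A, p.IsPrime → t ∈ p → p ≤ q → p = q) {w : A} (hw : w ∈ q) :
    ∃ N : ℕ, algebraMap A (Localization.AtPrime q) t ∣ algebraMap A (Localization.AtPrime q) (w ^ N) := by
  let R := Localization.AtPrime q
  have : algebraMap A R w ∈ (Ideal.span {algebraMap A R t}).radical := by
    rw [Ideal.radical_eq_sInf, Submodule.mem_sInf]
    rintro P ⟨hP, hPp⟩
    haveI := hPp
    have hle : Ideal.comap (algebraMap A R) P ≤ q := by
      have h1 := Ideal.comap_mono (f := algebraMap A R) (IsLocalRing.le_maximalIdeal hPp.ne_top)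
      exact h1.trans (IsLocalization.AtPrime.comap_maximalIdeal R q).le
    have := hmin _ (Ideal.IsPrime.comap _) (Ideal.mem_comap.mpr (hP (Ideal.mem_span_singleton_self _))) hle
    exact Ideal.mem_comap.mp (this.ge hw)
  obtain ⟨N, hN⟩ := this
  exact ⟨N, Ideal.mem_span_singleton.mp (by rwa [map_pow])⟩

theorem glue_height_one (hA : ringKrullDim A = 2) (t : A) (htnz : t ∈ A⁰) (r : ℕ) (q : Fin r → Ideal A)
    [hq : ∀ i, (q i).IsPrime] (hinj : Function.Injective q) (hqm : ∀ i, q i ≠ IsLocalRing.maximalIdeal A)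
    (htq : ∀ i, t ∈ q i) (hV : ∀ p : Ideal A, p.IsPrime → t ∈ p → p = IsLocalRing.maximalIdeal A ∨ ∃ i, p = q i)
    (B : Fin r → Type u) [∀ i, CommRing (B i)] [∀ i, Algebra (Localization.AtPrime (q i)) (B i)]
    (hB : ∀ i, CycAlg.IsFinExt (Localization.AtPrime (q i)) (B i) (Ideal.span {algebraMap A (Localization.AtPrime (q i)) t}))
    (htB : ∀ i, IsSMulRegular (B i) (algebraMap A (Localization.AtPrime (q i)) t)) :
    ∃ (C : Type u) (_ : CommRing C) (_ : Algebra A C), CycAlg.IsFinExt A C (Ideal.span {t}) ∧ algebraMap A C t ∈ C⁰ ∧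
      ∀ i, Nonempty (TensorProduct A (Localization.AtPrime (q i)) C ≃ₐ[Localization.AtPrime (q i)] B i) := by
  classical
  letI : ∀ i, Algebra A (B i) := fun i =>
    ((algebraMap (Localization.AtPrime (q i)) (B i)).comp (algebraMap A (Localization.AtPrime (q i)))).toAlgebra
  haveI : ∀ i, IsScalarTower A (Localization.AtPrime (q i)) (B i) := fun i => .of_algebraMap_eq fun _ => rfl
  haveI : ∀ i, Module.Finite (Localization.AtPrime (q i)) (B i) := fun i => (hB i).2.1
  let T := Localization.Away t
  let W : Fin r → Type u := fun i => Localization.Away (algebraMap A (B i) t)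
  have hreg : ∀ i (b : B i), algebraMap A (B i) t * b = 0 → b = 0 := fun i b h => htB i (by
    show _ • b = _ • (0 : B i)
    rw [smul_zero, Algebra.smul_def, ← IsScalarTower.algebraMap_apply]
    exact h)
  have hut : ∀ i, IsUnit (algebraMap A (W i) t) := fun i => by
    show IsUnit (algebraMap (B i) (W i) (algebraMap A (B i) t))
    exact IsLocalization.map_units (M := Submonoid.powers (algebraMap A (B i) t)) (W i) ⟨_, Submonoid.mem_powers _⟩
  let φ : ∀ i, T →ₐ[A] W i := fun i => awayHom t (W i) (hut i)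
  let lB : ∀ i, B i →ₐ[A] W i := fun i => IsScalarTower.toAlgHom A (B i) (W i)
  have hlB : ∀ i, Function.Injective (lB i) := fun i => by
    rw [injective_iff_map_eq_zero]
    intro b hb
    obtain ⟨n, hn⟩ := exists_pow_mul_eq _ (show algebraMap (B i) (W i) b = 0 from hb)
    induction n with
    | zero => simpa using hn
    | succ n ih => exact ih (hreg i _ (by rw [← mul_assoc, ← pow_succ']; exact hn))
  have hunitT : ∀ n : ℕ, IsUnit (algebraMap A T (t ^ n)) := fun n =>
    IsLocalization.map_units T (⟨t ^ n, n, rfl⟩ : Submonoid.powers t)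
  have hcan : ∀ (n : ℕ) {a : A}, t ^ n * a = 0 → a = 0 := fun n a h =>
    (mem_nonZeroDivisors_iff.mp (pow_mem htnz n)).1 a h
  have hTinj : Function.Injective (algebraMap A T) := (injective_iff_map_eq_zero _).mpr fun a ha => by
    obtain ⟨n, hn⟩ := exists_pow_mul_eq _ ha
    exact hcan n hn
  have hkerφ : ∀ i (x : T), φ i x = 0 → ∃ s ∉ q i, s • x = 0 := by
    intro i x hx
    obtain ⟨n, a, ha⟩ := IsLocalization.Away.surj t x
    have h1 : lB i (algebraMap A (B i) a) = 0 := by
      rw [AlgHom.commutes, ← AlgHom.commutes (φ i), ← ha, map_mul, hx, zero_mul]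
    rw [map_eq_zero_iff _ (hlB i), IsScalarTower.algebraMap_apply A (Localization.AtPrime (q i)),
      map_eq_zero_iff _ (hB i).1] at h1
    obtain ⟨⟨s, hs⟩, hsa⟩ := (IsLocalization.map_eq_zero_iff (q i).primeCompl _ a).mp h1
    refine ⟨s, hs, (hunitT n).mul_left_eq_zero.mp ?_⟩
    rw [Algebra.smul_def, mul_assoc, map_pow, ha, ← map_mul, hsa, map_zero]
  have hmin : ∀ j (p : Ideal A), p.IsPrime → t ∈ p → p ≤ q j → p = q j := fun j p hp htp hle =>
    (eq_or_lt_of_le hle).resolve_right (haveI := hp; not_lt_of_mem hA htnz htp (hqm j))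
  -- one integral element for each local generator
  have hgen : ∀ i (b : B i), ∃ x : T, IsIntegral A x ∧ (∀ j, φ j x ∈ (lB j).range) ∧
      ∃ s ∉ q i, φ i x = lB i (s • b) := by
    intro i b
    obtain ⟨n, hn⟩ := (hB i).2.2
    obtain ⟨z, hz⟩ := hn _ (Ideal.pow_mem_pow (Ideal.mem_span_singleton_self _) n) b
    obtain ⟨⟨a, σ⟩, hzσ⟩ := IsLocalization.surj (q i).primeCompl z
    have ha : algebraMap A (B i) a = algebraMap A (B i) t ^ n * ((σ : A) • b) := by
      have h := congrArg (algebraMap (Localization.AtPrime (q i)) (B i)) hzσ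
      rw [map_mul, hz, Algebra.smul_def, map_pow, ← IsScalarTower.algebraMap_apply A (Localization.AtPrime (q i)) (B i),
        ← IsScalarTower.algebraMap_apply A (Localization.AtPrime (q i)) (B i),
        ← IsScalarTower.algebraMap_apply A (Localization.AtPrime (q i)) (B i)] at h
      rw [← h, Algebra.smul_def]
      ring
    obtain ⟨⟨σ', hσ'⟩, hint⟩ := IsIntegral.exists_multiple_integral_of_isLocalization (R := A) (Rₘ := Localization.AtPrime (q i))
      (q i).primeCompl ((σ : A) • b) (Algebra.IsIntegral.isIntegral _)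
    replace hint : IsIntegral A (σ' • ((σ : A) • b)) := hint
    let x₁ : T := IsLocalization.mk' T (σ' * a) (⟨t ^ n, n, rfl⟩ : Submonoid.powers t)
    have hx₁ : φ i x₁ = lB i (σ' • ((σ : A) • b)) := by
      refine ((hut i).pow n).mul_left_inj.mp ?_
      rw [← map_pow, ← AlgHom.commutes (φ i) (t ^ n), ← map_mul, IsLocalization.mk'_spec T (σ' * a) (⟨t ^ n, n, rfl⟩ : Submonoid.powers t),
        AlgHom.commutes, AlgHom.commutes, ← AlgHom.commutes (lB i) (t ^ n), ← map_mul, ← AlgHom.commutes (lB i)]
      congr 1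
      rw [map_mul, ha, map_pow, Algebra.smul_def σ']
      ring
    obtain ⟨P, hP, hPx⟩ := hint.map (lB i)
    rw [← hx₁] at hPx
    obtain ⟨s, hs, hsx⟩ := hkerφ i (Polynomial.aeval x₁ P) (by rw [← Polynomial.aeval_algHom_apply]; exact hPx)
    have hint2 : IsIntegral A (s • x₁) := by
      refine ⟨(Polynomial.X * P).scaleRoots s, (Polynomial.monic_scaleRoots_iff s).mpr (Polynomial.monic_X.mul hP), ?_⟩
      rw [Algebra.smul_def, Polynomial.scaleRoots_eval₂_mul]
      rcases subsingleton_or_nontrivial A with hA' | hA'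
      · exact absurd (Subsingleton.elim (1 : A) 0) one_ne_zero
      · rw [Polynomial.natDegree_X_mul hP.ne_zero, pow_succ, mul_assoc, Polynomial.eval₂_mul, ← mul_assoc (algebraMap A T s),
          mul_comm (algebraMap A T s), mul_assoc _ (algebraMap A T s), ← Polynomial.aeval_def, ← Polynomial.aeval_def, ← Algebra.smul_def, hsx,
          mul_zero, mul_zero]
    -- make it integral at the other points
    have hu : ∀ j, ∃ u : A, u ∉ q i ∧ (j ≠ i → algebraMap A (Localization.AtPrime (q j)) t ^ n ∣ algebraMap A _ u) := by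
      intro j
      by_cases hji : j = i
      · exact ⟨1, (Ideal.ne_top_iff_one _).mp Ideal.IsPrime.ne_top', fun h => absurd hji h⟩
      · obtain ⟨w, hw, hwi⟩ := SetLike.not_le_iff_exists.mp fun hle => hji (hinj (hmin i _ (hq j) (htq j) hle))
        obtain ⟨N, hN⟩ := exists_pow_dvd t (q j) (hmin j) hw
        refine ⟨(w ^ N) ^ n, fun h => hwi ((hq i).mem_of_pow_mem _ ((hq i).mem_of_pow_mem _ h)), fun _ => ?_⟩
        rw [map_pow]
        exact pow_dvd_pow_of_dvd hN n
    choose u hu1 hu2 using hu
    refine ⟨(∏ j, u j) • (s • x₁), hint2.smul _, fun j => ?_, (∏ j, u j) * (s * (σ' * σ)), ?_, ?_⟩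
    · by_cases hji : j = i
      · subst hji
        rw [map_smul, map_smul, hx₁]
        exact (lB j).range.smul_mem ((lB j).range.smul_mem (AlgHom.mem_range_self (lB j) _) _) _
      · obtain ⟨c, hc⟩ := (hu2 j hji).trans (map_dvd (algebraMap A (Localization.AtPrime (q j))) (Finset.dvd_prod_of_mem u (Finset.mem_univ j)))
        refine ⟨algebraMap _ (B j) c * algebraMap A (B j) (s * (σ' * a)), ?_⟩
        refine ((hut j).pow n).mul_left_inj.mp ?_
        conv_rhs => rw [map_smul, map_smul, Algebra.smul_def, Algebra.smul_def, mul_assoc, mul_assoc, ← map_pow,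
          ← AlgHom.commutes (φ j) (t ^ n), ← map_mul (φ j), IsLocalization.mk'_spec T (σ' * a) (⟨t ^ n, n, rfl⟩ : Submonoid.powers t), AlgHom.commutes,
          ← AlgHom.commutes (lB j), ← AlgHom.commutes (lB j) s, ← AlgHom.commutes (lB j) (σ' * a), ← map_mul, ← map_mul]
        rw [← map_pow, ← AlgHom.commutes (lB j) (t ^ n)]
        show lB j _ * lB j _ = lB j _
        rw [← map_mul]
        congr 1
        rw [IsScalarTower.algebraMap_apply A (Localization.AtPrime (q j)) (B j) (∏ j, u j), hc]
        simp only [map_mul, map_pow, ← IsScalarTower.algebraMap_apply]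
        ring
    · intro h
      rcases (hq i).mem_or_mem h with h | h
      · obtain ⟨j, _, hj⟩ := (hq i).prod_mem_iff.mp h
        exact hu1 j hj
      · rcases (hq i).mem_or_mem h with h | h
        · exact hs h
        · exact ((hq i).mem_or_mem h).elim hσ' σ.2
    · rw [map_smul, map_smul, hx₁, ← map_smul, ← map_smul, smul_smul, smul_smul, smul_smul]
      congr 2
      ring
  choose x hxint hxmem s hs hxs using hgen
  choose G hG using fun i => ((hB i).2.1).fg_top
  let X : Finset T := Finset.univ.biUnion fun i => (G i).image (x i)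
  let C : Subalgebra A T := Algebra.adjoin A (X : Set T)
  have hX : ∀ y ∈ X, IsIntegral A y ∧ ∀ j, φ j y ∈ (lB j).range := by
    intro y hy
    obtain ⟨i, -, hy⟩ := Finset.mem_biUnion.mp hy
    obtain ⟨b, -, rfl⟩ := Finset.mem_image.mp hy
    exact ⟨hxint i b, hxmem i b⟩
  have hfin : Module.Finite A C := Module.Finite.iff_fg.mpr (fg_adjoin_of_finite X.finite_toSet fun y hy => (hX y hy).1)
  have hmem : ∀ j, C ≤ (lB j).range.comap (φ j) := fun j => Algebra.adjoin_le fun y hy => (hX y hy).2 j
  refine ⟨C, inferInstance, inferInstance, ⟨fun a b h => hTinj (congrArg Subtype.val h), hfin, ?_⟩, ?_, fun i => ?_⟩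
  swap
  · rw [mem_nonZeroDivisors_iff_right]
    intro c hc
    have h1 : (c : T) * algebraMap A T t = 0 := congrArg Subtype.val hc
    exact Subtype.ext ((IsLocalization.map_units T (⟨t, Submonoid.mem_powers t⟩ : Submonoid.powers t)).mul_left_eq_zero.mp h1)
  · obtain ⟨gs, hgs⟩ := hfin.fg_top
    choose k a hka using fun c : C => IsLocalization.Away.surj t (c : T)
    refine ⟨gs.sup k, fun y hy c => ?_⟩
    rw [Ideal.span_singleton_pow, Ideal.mem_span_singleton] at hy
    obtain ⟨y, rfl⟩ := hy
    suffices key : ∀ c : C, t ^ gs.sup k • c ∈ LinearMap.range (Algebra.linearMap A C) by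
      rw [mul_comm, mul_smul]
      exact Submodule.smul_mem (LinearMap.range (Algebra.linearMap A C)) y (key c)
    intro c
    have hc : c ∈ Submodule.span A (gs : Set C) := hgs.ge (show c ∈ (⊤ : Submodule A C) from trivial)
    induction hc using Submodule.span_induction with
    | mem c hc =>
      refine ⟨t ^ (gs.sup k - k c) * a c, Subtype.ext ?_⟩
      show algebraMap A T (t ^ (gs.sup k - k c) * a c) = t ^ gs.sup k • (c : T)
      rw [map_mul, ← hka c, ← map_pow, Algebra.smul_def]
      conv_rhs => rw [← Nat.sub_add_cancel (Finset.le_sup (f := k) hc), pow_add, map_mul]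
      ring
    | zero => rw [smul_zero]; exact Submodule.zero_mem _
    | add c d _ _ hc hd => rw [smul_add]; exact Submodule.add_mem _ hc hd
    | smul z c _ hc => rw [smul_comm]; exact Submodule.smul_mem _ z hc
  · let π : C →ₐ[A] B i := (AlgEquiv.ofInjective (lB i) (hlB i)).symm.toAlgHom.comp
      (((φ i).comp C.val).codRestrict (lB i).range fun c => hmem i c.2)
    have hπ : ∀ c : C, lB i (π c) = φ i (c : T) := fun c =>
      congrArg Subtype.val ((AlgEquiv.ofInjective (lB i) (hlB i)).apply_symm_apply ⟨φ i (c : T), hmem i c.2⟩)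
    refine nonempty_algEquiv (q i).primeCompl π (fun c hc => ?_) (fun b => ?_)
    · obtain ⟨s', hs', h⟩ := hkerφ i (c : T) (by rw [← hπ, hc, map_zero])
      exact ⟨⟨s', hs'⟩, Subtype.ext h⟩
    · have hb : b ∈ Submodule.span (Localization.AtPrime (q i)) (G i : Set (B i)) := (hG i).ge (show b ∈ (⊤ : Submodule (Localization.AtPrime (q i)) (B i)) from trivial)
      induction hb using Submodule.span_induction with
      | mem b hb =>
        refine ⟨⟨x i b, Algebra.subset_adjoin (Finset.mem_coe.mpr (Finset.mem_biUnion.mpr ⟨i, Finset.mem_univ _, Finset.mem_image_of_mem _ hb⟩))⟩,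
          ⟨s i b, hs i b⟩, hlB i ?_⟩
        rw [hπ]
        exact hxs i b
      | zero => exact ⟨0, 1, by rw [map_zero, smul_zero]⟩
      | add b d _ _ hb hd =>
        obtain ⟨c, u, hc⟩ := hb
        obtain ⟨c', u', hc'⟩ := hd
        refine ⟨(u' : A) • c + (u : A) • c', u * u', ?_⟩
        rw [map_add, map_smul, map_smul, hc, hc', Submonoid.coe_mul, smul_add, smul_smul, smul_smul, mul_comm (u : A)]
      | smul z b _ hb =>
        obtain ⟨c, u, hc⟩ := hb
        obtain ⟨⟨e, v⟩, hz⟩ := IsLocalization.surj (q i).primeCompl z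
        refine ⟨e • c, v * u, ?_⟩
        rw [map_smul, hc, Submonoid.coe_mul, mul_smul, smul_comm (u : A) z b, ← algebraMap_smul (Localization.AtPrime (q i)) (v : A) (z • (u : A) • b),
          ← mul_smul _ z, mul_comm _ z, hz, algebraMap_smul]

end Groth.Agent.H3CAlg.Glue
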