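import Mathlib

/-!
# Base change to a localization of an algebra
-/

set_option autoImplicit false
universe u

open scoped TensorProduct

namespace Groth.Agent.H3CAlg.Glue

variable {A : Type u} [CommRing A] (S : Submonoid A) {C : Type u} [CommRing C] [Algebra A C]

theorem exists_rep (x : Localization S ⊗[A] C) :
    ∃ (c : C) (s : S), (s : A) • x = (1 : Localization S) ⊗ₜ[A] c := by
  obtain ⟨⟨c, s⟩, h⟩ := IsLocalizedModule.surj S (TensorProduct.mk A (Localization S) C 1) x
  exact ⟨c, s, h⟩

theorem one_tmul_eq_zero {c : C} (h : (1 : Localization S) ⊗ₜ[A] c = 0) : ∃ s : S, (s : A) • c = 0 := by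
  obtain ⟨s, hs⟩ := (IsLocalizedModule.eq_zero_iff S (TensorProduct.mk A (Localization S) C 1)).mp h
  exact ⟨s, hs⟩

theorem isUnit_smul_cancel {M : Type u} [AddCommGroup M] [Module A M] [Module (Localization S) M]
    [IsScalarTower A (Localization S) M] (s : S) {x y : M} (h : (s : A) • x = (s : A) • y) : x = y := by
  rw [← algebraMap_smul (Localization S), ← algebraMap_smul (Localization S) (s : A) y] at h
  exact (IsLocalization.map_units (Localization S) s).smul_left_cancel.mp h

/-- The kernel and the cokernel vanish after localization. -/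
theorem bijective_base (hker : ∀ a : A, algebraMap A C a = 0 → ∃ s : S, (s : A) * a = 0)
    (hcoker : ∀ c : C, ∃ s : S, (s : A) • c ∈ (algebraMap A C).range) :
    Function.Bijective (algebraMap (Localization S) (Localization S ⊗[A] C)) := by
  constructor
  · rw [injective_iff_map_eq_zero]
    intro z hz
    obtain ⟨⟨a, s⟩, h⟩ := IsLocalization.surj S z
    have h' := congrArg (algebraMap (Localization S) (Localization S ⊗[A] C)) h
    rw [map_mul, hz, zero_mul] at h'
    have h'' : (1 : Localization S) ⊗ₜ[A] (algebraMap A C a) = 0 := by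
      rw [Algebra.algebraMap_eq_smul_one a, TensorProduct.tmul_smul, ← Algebra.TensorProduct.one_def,
        ← Algebra.algebraMap_eq_smul_one, IsScalarTower.algebraMap_apply A (Localization S)]
      exact h'.symm
    obtain ⟨t, ht⟩ := one_tmul_eq_zero S h''
    rw [Algebra.smul_def, ← map_mul] at ht
    obtain ⟨t', ht'⟩ := hker _ ht
    have : algebraMap A (Localization S) a = 0 :=
      (IsLocalization.map_eq_zero_iff S _ a).mpr ⟨t' * t, by rw [Submonoid.coe_mul, mul_assoc]; exact ht'⟩
    rw [this] at h
    exact (IsLocalization.map_units (Localization S) s).mul_left_eq_zero.mp h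
  · intro x
    obtain ⟨c, s, hc⟩ := exists_rep S x
    obtain ⟨t, a, ha⟩ := hcoker c
    refine ⟨IsLocalization.mk' _ a (t * s), isUnit_smul_cancel S (t * s) ?_⟩
    have h1 : (1 : Localization S) ⊗ₜ[A] (algebraMap A C a) = algebraMap (Localization S) (Localization S ⊗[A] C) (algebraMap A (Localization S) a) := by
      rw [Algebra.algebraMap_eq_smul_one a, TensorProduct.tmul_smul, ← Algebra.TensorProduct.one_def,
        ← Algebra.algebraMap_eq_smul_one, IsScalarTower.algebraMap_apply A (Localization S)]
    rw [Submonoid.coe_mul, mul_smul (t : A) (s : A) x, hc, ← TensorProduct.tmul_smul, ← ha, h1,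
      ← algebraMap_smul (Localization S) ((t : A) * s)]
    refine Eq.trans ?_ (congrArg _ (IsLocalization.mk'_spec' (Localization S) a (t * s)))
    rw [map_mul (algebraMap (Localization S) (Localization S ⊗[A] C)), Submonoid.coe_mul]
    exact Algebra.smul_def (R := Localization S) (A := Localization S ⊗[A] C) _ _

variable {B : Type u} [CommRing B] [Algebra (Localization S) B] [Algebra A B] [IsScalarTower A (Localization S) B]

/-- Recognizing the base change to a localization. -/
theorem nonempty_algEquiv (π : C →ₐ[A] B) (hinj : ∀ c, π c = 0 → ∃ s : S, (s : A) • c = 0)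
    (hsurj : ∀ b, ∃ c, ∃ s : S, π c = (s : A) • b) :
    Nonempty (Localization S ⊗[A] C ≃ₐ[Localization S] B) := by
  let f : Localization S ⊗[A] C →ₐ[Localization S] B :=
    Algebra.TensorProduct.lift (Algebra.ofId (Localization S) B) π (fun _ _ => Commute.all _ _)
  have hf : ∀ c, f (1 ⊗ₜ[A] c) = π c := fun c => by
    show Algebra.TensorProduct.lift _ π _ _ = _
    rw [Algebra.TensorProduct.lift_tmul, map_one, one_mul]
  refine ⟨AlgEquiv.ofBijective f ⟨(injective_iff_map_eq_zero _).mpr fun x hx => ?_, fun b => ?_⟩⟩
  · obtain ⟨c, s, hc⟩ := exists_rep S x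
    have h := congrArg f hc
    rw [hf, ← algebraMap_smul (Localization S) (s : A) x, map_smul, hx, smul_zero] at h
    obtain ⟨t, ht⟩ := hinj c h.symm
    refine isUnit_smul_cancel S (t * s) ?_
    rw [Submonoid.coe_mul, mul_smul (t : A) (s : A) x, hc, ← TensorProduct.tmul_smul, ht, TensorProduct.tmul_zero, smul_zero]
  · obtain ⟨c, s, hc⟩ := hsurj b
    refine ⟨IsLocalization.mk' (Localization S) 1 s • (1 ⊗ₜ[A] c), ?_⟩
    rw [map_smul, hf, hc, ← algebraMap_smul (Localization S) (s : A) b, smul_smul, IsLocalization.mk'_spec,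
      map_one, one_smul]

end Groth.Agent.H3CAlg.Glue
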