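import Groth.Agent.H3CAlg.Glue.Base
import Mathlib

/-!
# Gluing algebras at finitely many maximal ideals
-/

set_option autoImplicit false
set_option linter.style.haveILetI false
universe u

open scoped TensorProduct

namespace Groth.Agent.H3CAlg.Glue

/-- The map out of the ring of fractions of the powers of an element. -/
noncomputable def awayHom {A : Type u} [CommRing A] (y : A) (T : Type u) [CommRing T] [Algebra A T]
    (h : IsUnit (algebraMap A T y)) : Localization.Away y →ₐ[A] T :=
  IsLocalization.liftAlgHom (M := Submonoid.powers y) (f := Algebra.ofId A T) (fun z => by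
    obtain ⟨z, n, rfl⟩ := z
    show IsUnit (algebraMap A T (y ^ n))
    rw [map_pow]
    exact h.pow n)

theorem exists_pow_mul_eq {A : Type u} [CommRing A] (y : A) {x : A}
    (h : algebraMap A (Localization.Away y) x = 0) : ∃ n : ℕ, y ^ n * x = 0 := by
  obtain ⟨⟨_, n, rfl⟩, hn⟩ := (IsLocalization.map_eq_zero_iff (Submonoid.powers y) _ x).mp h
  exact ⟨n, hn⟩

/-- An exponent which works for finitely many conditions. -/
theorem exists_uniform {ι : Type*} [Finite ι] (p : ι → ℕ → Prop) (hp : ∀ i n m, n ≤ m → p i n → p i m)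
    (h : ∀ i, ∃ n, p i n) : ∃ N, ∀ i, p i N := by
  cases nonempty_fintype ι
  choose n hn using h
  exact ⟨Finset.univ.sup n, fun i => hp i _ _ (Finset.le_sup (Finset.mem_univ i)) (hn i)⟩

/-- Gluing at one maximal ideal. -/
theorem glue_one {A : Type u} [CommRing A] [IsNoetherianRing A] (m : Ideal A) [m.IsMaximal] (B : Type u) [CommRing B]
    [Algebra (Localization.AtPrime m) B]
    (hker : ∃ n : ℕ, ∀ x ∈ RingHom.ker (algebraMap (Localization.AtPrime m) B),
      ∀ y ∈ Ideal.map (algebraMap A (Localization.AtPrime m)) m ^ n, y * x = 0)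
    (hcoker : ∃ n : ℕ, ∀ y ∈ Ideal.map (algebraMap A (Localization.AtPrime m)) m ^ n,
      ∀ b : B, y • b ∈ (algebraMap (Localization.AtPrime m) B).range) :
    ∃ (C : Type u) (_ : CommRing C) (_ : Algebra A C),
      Nonempty (Localization.AtPrime m ⊗[A] C ≃ₐ[Localization.AtPrime m] B) ∧
      ∀ (M : Ideal A) [M.IsMaximal], M ≠ m →
        Function.Bijective (algebraMap (Localization.AtPrime M) (Localization.AtPrime M ⊗[A] C)) := by
  classical
  obtain ⟨nk, hker⟩ := hker
  obtain ⟨nc, hcoker⟩ := hcoker
  let Am := Localization.AtPrime m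
  letI : Algebra A B := ((algebraMap Am B).comp (algebraMap A Am)).toAlgebra
  haveI : IsScalarTower A Am B := .of_algebraMap_eq fun _ => rfl
  obtain ⟨k, y, hy⟩ := Submodule.fg_iff_exists_fin_generating_family.mp (IsNoetherian.noetherian m)
  have hym : ∀ j, y j ∈ m := fun j => hy ▸ Submodule.subset_span ⟨j, rfl⟩
  have hout : ∀ (M : Ideal A) [M.IsMaximal], M ≠ m → ∃ j, y j ∉ M := by
    intro M hM hne
    by_contra h
    push Not at h
    exact hne (Ideal.IsMaximal.eq_of_le inferInstance hM.ne_top (hy ▸ Submodule.span_le.mpr (by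
      rintro _ ⟨j, rfl⟩; exact h j))).symm
  let P := (∀ j : Fin k, Localization.Away (y j)) × B
  let pr : ∀ j : Fin k, P →ₐ[A] Localization.Away (y j) := fun j =>
    (Pi.evalAlgHom A (fun j => Localization.Away (y j)) j).comp (AlgHom.fst A _ B)
  let lb : P →ₐ[A] B := AlgHom.snd A _ B
  have hu1 : ∀ j l : Fin k, IsUnit (algebraMap A (Localization.Away (y j * y l)) (y j)) := fun j l =>
    isUnit_of_mul_isUnit_left (y := algebraMap A _ (y l)) (by
      rw [← map_mul]; exact IsLocalization.map_units (Localization.Away (y j * y l)) ⟨_, Submonoid.mem_powers _⟩)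
  have hu2 : ∀ j l : Fin k, IsUnit (algebraMap A (Localization.Away (y j * y l)) (y l)) := fun j l =>
    isUnit_of_mul_isUnit_right (x := algebraMap A _ (y j)) (by
      rw [← map_mul]; exact IsLocalization.map_units (Localization.Away (y j * y l)) ⟨_, Submonoid.mem_powers _⟩)
  have hu3 : ∀ j : Fin k, IsUnit (algebraMap A (Localization.Away (algebraMap A B (y j))) (y j)) := fun j => by
    rw [IsScalarTower.algebraMap_apply A B]
    exact IsLocalization.map_units (M := Submonoid.powers (algebraMap A B (y j))) (Localization.Away (algebraMap A B (y j))) ⟨_, Submonoid.mem_powers _⟩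
  let f : ∀ j l : Fin k, P →ₐ[A] Localization.Away (y j * y l) := fun j l => (awayHom (y j) _ (hu1 j l)).comp (pr j)
  let g : ∀ j l : Fin k, P →ₐ[A] Localization.Away (y j * y l) := fun j l => (awayHom (y l) _ (hu2 j l)).comp (pr l)
  let u : ∀ j : Fin k, P →ₐ[A] Localization.Away (algebraMap A B (y j)) := fun j => (awayHom (y j) _ (hu3 j)).comp (pr j)
  let v : ∀ j : Fin k, P →ₐ[A] Localization.Away (algebraMap A B (y j)) := fun j =>
    (IsScalarTower.toAlgHom A B (Localization.Away (algebraMap A B (y j)))).comp lb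
  let C : Subalgebra A P := (⨅ (j) (l), AlgHom.equalizer (f j l) (g j l)) ⊓ ⨅ j, AlgHom.equalizer (u j) (v j)
  have hC : ∀ p : P, p ∈ C ↔ (∀ j l, f j l p = g j l p) ∧ ∀ j, u j p = v j p := fun p => by
    simp only [C, Algebra.mem_inf, Algebra.mem_iInf, AlgHom.mem_equalizer]
  -- kernels and cokernels of the maps to `B`
  have hkerA : ∀ (x : A), algebraMap A B x = 0 → ∀ j, ∃ s ∉ m, s * (y j ^ nk * x) = 0 := by
    intro x hx j
    have h := hker (algebraMap A Am x) hx (algebraMap A Am (y j) ^ nk)
      (Ideal.pow_mem_pow (Ideal.mem_map_of_mem _ (hym j)) _)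
    rw [← map_pow, ← map_mul] at h
    obtain ⟨⟨s, hs⟩, hsx⟩ := (IsLocalization.map_eq_zero_iff m.primeCompl _ _).mp h
    exact ⟨s, hs, hsx⟩
  -- every element is multiplied into the image by powers of the generators
  have htor : ∀ (c : C) (j : Fin k), ∃ n : ℕ, y j ^ n • c ∈ (algebraMap A C).range := by
    rintro ⟨p, hp⟩ j
    obtain ⟨hp1, hp2⟩ := (hC p).mp hp
    obtain ⟨n₀, a, ha⟩ := IsLocalization.Away.surj (y j) (pr j p)
    let d : P := y j ^ n₀ • p - algebraMap A P a
    have hd : d ∈ C := C.sub_mem (C.smul_mem hp _) (C.algebraMap_mem a)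
    obtain ⟨hd1, hd2⟩ := (hC d).mp hd
    have hdj : pr j d = 0 := by
      show pr j (y j ^ n₀ • p - algebraMap A P a) = 0
      rw [map_sub, map_smul, AlgHom.commutes, Algebra.smul_def, map_pow, mul_comm, ha, sub_self]
    have hkill : ∀ l, ∃ n, y j ^ n • pr l d = 0 := by
      intro l
      have h0 : g j l d = 0 := by
        rw [← hd1 j l]
        simp only [f, AlgHom.comp_apply]
        rw [hdj, map_zero]
      obtain ⟨n, a', ha'⟩ := IsLocalization.Away.surj (y l) (pr l d)
      have h1 : algebraMap A (Localization.Away (y j * y l)) a' = 0 := by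
        have := congrArg (awayHom (y l) (Localization.Away (y j * y l)) (hu2 j l)) ha'
        rw [map_mul, AlgHom.commutes] at this
        rw [← this, show awayHom (y l) (Localization.Away (y j * y l)) _ (pr l d) = g j l d from rfl, h0, zero_mul]
      obtain ⟨n', hn'⟩ := exists_pow_mul_eq _ h1
      refine ⟨n', ?_⟩
      have hu : IsUnit (algebraMap A (Localization.Away (y l)) (y l) ^ (n + n')) :=
        (IsLocalization.map_units (Localization.Away (y l)) ⟨y l, Submonoid.mem_powers _⟩).pow _
      refine hu.mul_left_eq_zero.mp ?_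
      rw [Algebra.smul_def, pow_add, mul_assoc, ← mul_assoc (pr l d), ha', ← map_pow, ← map_mul, ← map_mul,
        show y j ^ n' * (a' * y l ^ n') = (y j * y l) ^ n' * a' by ring, hn', map_zero]
    have hkillB : ∃ n, y j ^ n • lb d = 0 := by
      have h0 : v j d = 0 := by
        rw [← hd2 j]
        simp only [u, AlgHom.comp_apply]
        rw [hdj, map_zero]
      obtain ⟨n, hn⟩ := exists_pow_mul_eq _ (show algebraMap B (Localization.Away (algebraMap A B (y j))) (lb d) = 0 from h0)
      exact ⟨n, by rw [Algebra.smul_def, map_pow]; exact hn⟩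
    have hmono : ∀ {M : Type u} [AddCommGroup M] [Module A M] (x : M) (n n' : ℕ), n ≤ n' → y j ^ n • x = 0 → y j ^ n' • x = 0 := by
      intro M _ _ x n n' hle h
      rw [← Nat.sub_add_cancel hle, pow_add, mul_smul, h, smul_zero]
    obtain ⟨N, hN⟩ := exists_uniform (fun l n => y j ^ n • pr l d = 0) (fun l n n' hle h => hmono _ n n' hle h) hkill
    obtain ⟨N', hN'⟩ := hkillB
    refine ⟨N + N' + n₀, y j ^ (N + N') * a, Subtype.ext ?_⟩
    have hzero : y j ^ (N + N') • d = 0 := Prod.ext
      (funext fun l => hmono (pr l d) N _ (Nat.le_add_right _ _) (hN l))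
      (hmono (lb d) N' _ (Nat.le_add_left _ _) hN')
    rw [smul_sub, sub_eq_zero, ← mul_smul, ← pow_add] at hzero
    show algebraMap A P (y j ^ (N + N') * a) = y j ^ (N + N' + n₀) • p
    rw [hzero, map_mul, ← Algebra.smul_def]
  have hkerC : ∀ (a : A), algebraMap A C a = 0 → ∀ j, ∃ n, y j ^ n * a = 0 := by
    intro a ha j
    exact exists_pow_mul_eq _ (congrArg (fun c : C => pr j (c : P)) ha)
  refine ⟨C, inferInstance, inferInstance, ?_, fun M hM hne => ?_⟩
  · refine nonempty_algEquiv m.primeCompl (lb.comp C.val) ?_ ?_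
    · rintro ⟨p, hp⟩ h
      change lb p = 0 at h
      obtain ⟨-, hp2⟩ := (hC p).mp hp
      have hj : ∀ j, ∃ s : m.primeCompl, (s : A) • pr j p = 0 := by
        intro j
        obtain ⟨n, a, ha⟩ := IsLocalization.Away.surj (y j) (pr j p)
        have h1 : algebraMap B (Localization.Away (algebraMap A B (y j))) (algebraMap A B a) = 0 := by
          have := congrArg (awayHom (y j) (Localization.Away (algebraMap A B (y j))) (hu3 j)) ha
          rw [map_mul, AlgHom.commutes] at this
          rw [← IsScalarTower.algebraMap_apply, ← this,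
            show awayHom (y j) (Localization.Away (algebraMap A B (y j))) _ (pr j p) = v j p from hp2 j,
            show v j p = algebraMap B _ (lb p) from rfl, h, map_zero, zero_mul]
        obtain ⟨n', hn'⟩ := exists_pow_mul_eq _ h1
        rw [← map_pow, ← map_mul] at hn'
        obtain ⟨s, hs, hsx⟩ := hkerA _ hn' j
        refine ⟨⟨s, hs⟩, ?_⟩
        have hu : IsUnit (algebraMap A (Localization.Away (y j)) (y j) ^ (n + (nk + n'))) :=
          (IsLocalization.map_units (Localization.Away (y j)) ⟨y j, Submonoid.mem_powers _⟩).pow _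
        refine hu.mul_left_eq_zero.mp ?_
        rw [Algebra.smul_def, pow_add, mul_assoc, ← mul_assoc (pr j p), ha, ← map_pow, ← map_mul, ← map_mul,
          show s * (a * y j ^ (nk + n')) = s * (y j ^ nk * (y j ^ n' * a)) by ring, hsx, map_zero]
      choose s hs using hj
      refine ⟨∏ j, s j, Subtype.ext (Prod.ext (funext fun j => ?_) ?_)⟩
      · show ((∏ l, s l : m.primeCompl) : A) • pr j p = 0
        obtain ⟨r, hr⟩ := Finset.dvd_prod_of_mem s (Finset.mem_univ j)
        rw [hr, mul_comm (s j), Submonoid.coe_mul, mul_smul, hs j, smul_zero]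
      · show ((∏ l, s l : m.primeCompl) : A) • lb p = 0
        rw [h, smul_zero]
    · intro b
      have hb : ∀ j, ∃ s : m.primeCompl, ∃ a : A, algebraMap A B a = (s : A) • (y j ^ nc • b) := by
        intro j
        obtain ⟨z, hz⟩ := hcoker (algebraMap A Am (y j) ^ nc) (Ideal.pow_mem_pow (Ideal.mem_map_of_mem _ (hym j)) _) b
        obtain ⟨⟨a, s⟩, hzs⟩ := IsLocalization.surj m.primeCompl z
        refine ⟨s, a, ?_⟩
        have := congrArg (algebraMap Am B) hzs
        rw [map_mul, hz] at this
        rw [IsScalarTower.algebraMap_apply A Am B, ← this, mul_comm, ← algebraMap_smul Am (y j ^ nc) b, map_pow,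
          Algebra.smul_def ((s : A)), IsScalarTower.algebraMap_apply A Am B]
      choose s a ha using hb
      obtain ⟨S, hS⟩ : ∃ S : m.primeCompl, ∀ j, s j ∣ S := ⟨∏ j, s j, fun j => Finset.dvd_prod_of_mem s (Finset.mem_univ j)⟩
      choose r hr using hS
      obtain ⟨α, hα⟩ : ∃ α : Fin k → A, ∀ j, algebraMap A B (α j) = (S : A) • (y j ^ nc • b) :=
        ⟨fun j => (r j : A) * a j, fun j => by
          rw [hr j, Submonoid.coe_mul, mul_comm (s j : A), mul_smul, ← ha j, Algebra.smul_def, ← map_mul]⟩
      -- clear the discrepancies on overlaps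
      have hov : ∀ q : Fin k × Fin k, ∃ t : m.primeCompl,
          (t : A) * ((y q.1 * y q.2) ^ nk * (α q.1 * y q.2 ^ nc - α q.2 * y q.1 ^ nc)) = 0 := by
        rintro ⟨j, l⟩
        have h0 : algebraMap A B (y l ^ nk * (α j * y l ^ nc - α l * y j ^ nc)) = 0 := by
          rw [map_mul, map_sub, map_mul, map_mul, hα, hα, Algebra.smul_def, Algebra.smul_def, Algebra.smul_def,
            Algebra.smul_def, map_pow, map_pow, map_pow]
          ring
        obtain ⟨t, ht, htx⟩ := hkerA _ h0 j
        exact ⟨⟨t, ht⟩, by rw [mul_pow, mul_assoc]; exact htx⟩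
      choose t ht using hov
      obtain ⟨T, hT⟩ : ∃ T : m.primeCompl, ∀ q, t q ∣ T := ⟨∏ q, t q, fun q => Finset.dvd_prod_of_mem t (Finset.mem_univ q)⟩
      let z : ∀ j, Localization.Away (y j) := fun j =>
        IsLocalization.mk' _ ((T : A) * α j) ⟨y j ^ nc, pow_mem (Submonoid.mem_powers _) _⟩
      let β : B := (T : A) • (S : A) • b
      have hz : ∀ j, z j * algebraMap A _ (y j ^ nc) = algebraMap A _ ((T : A) * α j) := fun j =>
        IsLocalization.mk'_spec _ ((T : A) * α j) ⟨y j ^ nc, pow_mem (Submonoid.mem_powers _) _⟩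
      have hmem : ((z, β) : P) ∈ C := by
        rw [hC]
        refine ⟨fun j l => ?_, fun j => ?_⟩
        · show awayHom (y j) (Localization.Away (y j * y l)) (hu1 j l) (z j) = awayHom (y l) _ (hu2 j l) (z l)
          have hun : IsUnit (algebraMap A (Localization.Away (y j * y l)) ((y j * y l) ^ (nk + nc))) :=
            IsLocalization.map_units (Localization.Away (y j * y l)) (⟨_, pow_mem (Submonoid.mem_powers _) _⟩ : Submonoid.powers (y j * y l))
          refine hun.mul_left_inj.mp ?_
          conv_lhs => rw [show (y j * y l) ^ (nk + nc) = y j ^ nc * (y j ^ nk * y l ^ nk * y l ^ nc) by ring, map_mul,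
            ← mul_assoc, ← AlgHom.commutes (awayHom (y j) (Localization.Away (y j * y l)) (hu1 j l)) (y j ^ nc), ← map_mul, hz,
            AlgHom.commutes, ← map_mul]
          conv_rhs => rw [show (y j * y l) ^ (nk + nc) = y l ^ nc * (y j ^ nk * y l ^ nk * y j ^ nc) by ring, map_mul,
            ← mul_assoc, ← AlgHom.commutes (awayHom (y l) (Localization.Away (y j * y l)) (hu2 j l)) (y l ^ nc), ← map_mul, hz,
            AlgHom.commutes, ← map_mul]
          congr 1
          obtain ⟨w, hw⟩ := hT (j, l)
          have h0 : (T : A) * ((y j * y l) ^ nk * (α j * y l ^ nc - α l * y j ^ nc)) = 0 := by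
            rw [hw, Submonoid.coe_mul, mul_comm (t (j, l) : A), mul_assoc, ht (j, l), mul_zero]
          rw [mul_pow] at h0
          linear_combination h0
        · show awayHom (y j) _ (hu3 j) (z j) = algebraMap B _ β
          refine ((hu3 j).pow nc).mul_left_inj.mp ?_
          rw [← map_pow]
          conv_lhs => rw [← AlgHom.commutes (awayHom (y j) (Localization.Away (algebraMap A B (y j))) (hu3 j)) (y j ^ nc),
            ← map_mul, hz, AlgHom.commutes]
          rw [IsScalarTower.algebraMap_apply A B (Localization.Away (algebraMap A B (y j))) ((T : A) * α j),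
            IsScalarTower.algebraMap_apply A B (Localization.Away (algebraMap A B (y j))) (y j ^ nc),
            ← map_mul (algebraMap B (Localization.Away (algebraMap A B (y j))))]
          refine congrArg _ ?_
          rw [map_mul, hα]
          simp only [β, Algebra.smul_def]
          ring
      refine ⟨⟨(z, β), hmem⟩, T * S, ?_⟩
      show β = _
      rw [Submonoid.coe_mul, mul_smul]
  · obtain ⟨j, hj⟩ := hout M hne
    refine bijective_base M.primeCompl (fun a ha => ?_) (fun c => ?_)
    · obtain ⟨n, hn⟩ := hkerC a ha j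
      exact ⟨⟨y j ^ n, fun h => hj (‹M.IsMaximal›.isPrime.mem_of_pow_mem _ h)⟩, hn⟩
    · obtain ⟨n, hn⟩ := htor c j
      exact ⟨⟨y j ^ n, fun h => hj (‹M.IsMaximal›.isPrime.mem_of_pow_mem _ h)⟩, hn⟩

/-- Gluing at finitely many maximal ideals. -/
theorem glue_many {A : Type u} [CommRing A] [IsNoetherianRing A] :
    ∀ (r : ℕ) (m : Fin r → Ideal A) [∀ i, (m i).IsMaximal], Function.Injective m →
      ∀ (B : Fin r → Type u) [∀ i, CommRing (B i)] [∀ i, Algebra (Localization.AtPrime (m i)) (B i)],
        (∀ i, ∃ n : ℕ, ∀ x ∈ RingHom.ker (algebraMap (Localization.AtPrime (m i)) (B i)),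
          ∀ y ∈ Ideal.map (algebraMap A (Localization.AtPrime (m i))) (m i) ^ n, y * x = 0) →
        (∀ i, ∃ n : ℕ, ∀ y ∈ Ideal.map (algebraMap A (Localization.AtPrime (m i))) (m i) ^ n,
          ∀ b : B i, y • b ∈ (algebraMap (Localization.AtPrime (m i)) (B i)).range) →
        ∃ (C : Type u) (_ : CommRing C) (_ : Algebra A C),
          (∀ i, Nonempty (Localization.AtPrime (m i) ⊗[A] C ≃ₐ[Localization.AtPrime (m i)] B i)) ∧
          ∀ (M : Ideal A) [M.IsMaximal], (∀ i, M ≠ m i) →
            Function.Bijective (algebraMap (Localization.AtPrime M) (Localization.AtPrime M ⊗[A] C)) := by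
  intro r
  induction r with
  | zero =>
    intro m _ _ B _ _ _ _
    refine ⟨A, inferInstance, inferInstance, fun i => i.elim0, fun M _ _ => bijective_base M.primeCompl ?_ ?_⟩
    · exact fun a ha => ⟨1, by rw [OneMemClass.coe_one, one_mul]; exact ha⟩
    · exact fun c => ⟨1, ⟨c, (one_smul A c).symm⟩⟩
  | succ r ih =>
    intro m hm hinj B _ _ hker hcoker
    haveI : ∀ i : Fin r, ((fun i => m i.castSucc) i).IsMaximal := fun i => hm i.castSucc
    obtain ⟨C, _, _, hC, hC'⟩ := ih (fun i => m i.castSucc) (hinj.comp (Fin.castSucc_injective r)) (fun i => B i.castSucc)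
      (fun i => hker i.castSucc) (fun i => hcoker i.castSucc)
    obtain ⟨D, _, _, hD, hD'⟩ := glue_one (m (Fin.last r)) (B (Fin.last r)) (hker _) (hcoker _)
    have hone : ∀ (M : Ideal A) [M.IsMaximal], Function.Bijective (algebraMap (Localization.AtPrime M) (Localization.AtPrime M ⊗[A] D)) →
        Nonempty (Localization.AtPrime M ⊗[A] (C ⊗[A] D) ≃ₐ[Localization.AtPrime M] Localization.AtPrime M ⊗[A] C) := fun M _ h =>
      ⟨(Algebra.TensorProduct.assoc A A (Localization.AtPrime M) (Localization.AtPrime M) C D).symm.trans <|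
        (Algebra.TensorProduct.cancelBaseChange A (Localization.AtPrime M) (Localization.AtPrime M)
          (Localization.AtPrime M ⊗[A] C) D).symm.trans <|
        (Algebra.TensorProduct.congr AlgEquiv.refl (AlgEquiv.ofBijective (Algebra.ofId _ _) h).symm).trans
          (Algebra.TensorProduct.rid (Localization.AtPrime M) (Localization.AtPrime M) (Localization.AtPrime M ⊗[A] C))⟩
    refine ⟨C ⊗[A] D, inferInstance, inferInstance, fun i => ?_, fun M _ hne => ?_⟩
    · rcases Fin.eq_castSucc_or_eq_last i with ⟨i, rfl⟩ | rfl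
      · obtain ⟨e⟩ := hone _ (hD' (m i.castSucc) fun h => (Fin.castSucc_lt_last i).ne (hinj h))
        obtain ⟨e'⟩ := hC i
        exact ⟨e.trans e'⟩
      · obtain ⟨e'⟩ := hD
        have h := hC' (m (Fin.last r)) fun i h => (Fin.castSucc_lt_last i).ne (hinj h).symm
        exact ⟨(Algebra.TensorProduct.assoc A A (Localization.AtPrime (m (Fin.last r))) (Localization.AtPrime (m (Fin.last r))) C D).symm.trans <|
          (Algebra.TensorProduct.congr (AlgEquiv.ofBijective (Algebra.ofId _ _) h).symm AlgEquiv.refl).trans e'⟩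
    · obtain ⟨e⟩ := hone M (hD' M (hne _))
      have h := hC' M fun i => hne i.castSucc
      have : algebraMap (Localization.AtPrime M) (Localization.AtPrime M ⊗[A] (C ⊗[A] D)) =
          (e.symm.toAlgHom.toRingHom).comp (algebraMap _ _) := RingHom.ext fun x => (e.symm.commutes x).symm
      rw [this]
      exact e.symm.bijective.comp h

end Groth.Agent.H3CAlg.Glue

namespace Groth.Agent.H3CAlg.Glue

variable {A : Type u} [CommRing A] {C : Type u} [CommRing C] [Algebra A C]

theorem mem_of_local (N : Submodule A C) (c : C)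
    (h : ∀ M : Ideal A, M.IsMaximal → ∃ s : A, s ∉ M ∧ s • c ∈ N) : c ∈ N := by
  let J : Ideal A :=
    { carrier := {a | a • c ∈ N}
      add_mem' := fun {a b} ha hb => by show (a + b) • c ∈ N; rw [add_smul]; exact N.add_mem ha hb
      zero_mem' := by show (0 : A) • c ∈ N; rw [zero_smul]; exact N.zero_mem
      smul_mem' := fun r a ha => by show (r * a) • c ∈ N; rw [mul_smul]; exact N.smul_mem r ha }
  by_contra hc
  have hJ : J ≠ ⊤ := fun hJ => hc (by
    have : (1 : A) • c ∈ N := hJ.ge (show (1 : A) ∈ (⊤ : Ideal A) from trivial)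
    rwa [one_smul] at this)
  obtain ⟨M, hM, hle⟩ := Ideal.exists_le_maximal J hJ
  obtain ⟨s, hs, hsc⟩ := h M hM
  exact hs (hle hsc)

/-- An element whose image in a localization comes from a submodule comes from it up to a denominator. -/
theorem exists_smul_mem (S : Submonoid A) (N : Submodule A C) (c : C)
    (h : (1 : Localization S) ⊗ₜ[A] c ∈
      Submodule.span (Localization S) ((fun n : C => (1 : Localization S) ⊗ₜ[A] n) '' (N : Set C))) :
    ∃ s : S, (s : A) • c ∈ N := by
  have : ∀ x ∈ Submodule.span (Localization S) ((fun n : C => (1 : Localization S) ⊗ₜ[A] n) '' (N : Set C)),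
      ∃ n ∈ N, ∃ s : S, (s : A) • x = (1 : Localization S) ⊗ₜ[A] n := by
    intro x hx
    induction hx using Submodule.span_induction with
    | mem x hx =>
      obtain ⟨n, hn, rfl⟩ := hx
      exact ⟨n, hn, 1, by rw [OneMemClass.coe_one, one_smul]⟩
    | zero => exact ⟨0, N.zero_mem, 1, by rw [smul_zero, TensorProduct.tmul_zero]⟩
    | add x y _ _ hx hy =>
      obtain ⟨n, hn, s, hs⟩ := hx
      obtain ⟨m, hm, t, ht⟩ := hy
      refine ⟨(t : A) • n + (s : A) • m, N.add_mem (N.smul_mem _ hn) (N.smul_mem _ hm), s * t, ?_⟩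
      rw [Submonoid.coe_mul, smul_add, TensorProduct.tmul_add, TensorProduct.tmul_smul, TensorProduct.tmul_smul, ← hs, ← ht,
        mul_smul, mul_smul, smul_comm (s : A) (t : A) x]
    | smul z x _ hx =>
      obtain ⟨n, hn, s, hs⟩ := hx
      obtain ⟨⟨a, t⟩, hzt⟩ := IsLocalization.surj S z
      refine ⟨a • n, N.smul_mem _ hn, t * s, ?_⟩
      rw [Submonoid.coe_mul, mul_smul, smul_comm (s : A) z x, hs, TensorProduct.tmul_smul,
        ← algebraMap_smul (Localization S) (t : A), smul_smul, mul_comm, hzt, algebraMap_smul]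
  obtain ⟨n, hn, s, hs⟩ := this _ h
  rw [← TensorProduct.tmul_smul, ← sub_eq_zero, ← TensorProduct.tmul_sub] at hs
  obtain ⟨t, ht⟩ := one_tmul_eq_zero S hs
  rw [smul_sub, sub_eq_zero, smul_smul] at ht
  exact ⟨t * s, by rw [Submonoid.coe_mul, ht]; exact N.smul_mem _ hn⟩

theorem algebraMap_mem_span (S : Submonoid A) (N : Submodule A C) (hN : (1 : C) ∈ N) (z : Localization S) :
    algebraMap (Localization S) (Localization S ⊗[A] C) z ∈
      Submodule.span (Localization S) ((fun n : C => (1 : Localization S) ⊗ₜ[A] n) '' (N : Set C)) := by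
  rw [Algebra.algebraMap_eq_smul_one]
  exact Submodule.smul_mem _ _ (Submodule.subset_span ⟨1, hN, rfl⟩)

theorem one_tmul_algebraMap (S : Submonoid A) (x : A) :
    (1 : Localization S) ⊗ₜ[A] (algebraMap A C x) =
      algebraMap (Localization S) (Localization S ⊗[A] C) (algebraMap A (Localization S) x) := by
  rw [Algebra.algebraMap_eq_smul_one x, TensorProduct.tmul_smul, ← Algebra.TensorProduct.one_def,
    ← Algebra.algebraMap_eq_smul_one, IsScalarTower.algebraMap_apply A (Localization S)]

end Groth.Agent.H3CAlg.Glue
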